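import Groth.Agent.ZBQuotCmp.Conj
import Groth.Agent.SGA1Q.Properties
import Groth.Agent.S0415
import Mathlib.AlgebraicGeometry.Morphisms.UniversallyInjective
import Mathlib.AlgebraicGeometry.Morphisms.SchemeTheoreticallyDominant
import Mathlib.AlgebraicGeometry.Morphisms.Proper

/-!
# Field-valued points of quotients and comparison morphisms
-/

universe u

open CategoryTheory CategoryTheory.Limits AlgebraicGeometry

namespace Groth.Agent.ZBQuotCmp

variable {X Y : Scheme.{u}} {G : Type u} [Group G] [Finite G] {ρ : G →* Aut X} {p : X ⟶ Y}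

theorem eq_of_appLE_eq {T : Scheme.{u}} [IsAffine T] (x x' : T ⟶ X) {O : X.Opens}
    (hO : IsAffineOpen O) (e : (⊤ : T.Opens) ≤ x ⁻¹ᵁ O) (e' : (⊤ : T.Opens) ≤ x' ⁻¹ᵁ O)
    (h : x.appLE O ⊤ e = x'.appLE O ⊤ e') : x = x' := by
  haveI : IsIso (isAffineOpen_top T).fromSpec := by
    rw [IsAffineOpen.fromSpec_top]
    infer_instance
  rw [← cancel_epi (isAffineOpen_top T).fromSpec, ← IsAffineOpen.SpecMap_appLE_fromSpec x hO _ e,
    ← IsAffineOpen.SpecMap_appLE_fromSpec x' hO _ e', h]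

/-- Two field-valued points with the same image in the quotient are conjugate. -/
theorem pts_conj (hp : SGA1.IsQuot ρ p) (Ω : Type u) [Field Ω]
    (x₁ x₂ : Spec (CommRingCat.of Ω) ⟶ X) (h : x₁ ≫ p = x₂ ≫ p) :
    ∃ g : G, x₁ ≫ (ρ g).hom = x₂ := by
  haveI := hp.affine
  obtain ⟨U, hU, hy, -⟩ := exists_isAffineOpen_mem_and_subset
    (x := p (x₁ (IsLocalRing.closedPoint Ω))) (U := ⊤) trivial
  let O := p ⁻¹ᵁ U
  have hO : IsAffineOpen O := hU.preimage p
  have hst : ∀ g : G, O ≤ (ρ g).hom ⁻¹ᵁ O := fun g => SGA1.preimage_le_of_inv ρ p hp.inv g U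
  have hpt : ∀ v : Spec (CommRingCat.of Ω), v = IsLocalRing.closedPoint Ω := fun v =>
    Subsingleton.elim _ _
  have h₁ : (⊤ : (Spec (CommRingCat.of Ω)).Opens) ≤ x₁ ⁻¹ᵁ O := fun v _ => by
    show p (x₁ v) ∈ U
    rw [hpt v]; exact hy
  have h₂ : (⊤ : (Spec (CommRingCat.of Ω)).Opens) ≤ x₂ ⁻¹ᵁ O := fun v _ => by
    show (x₂ ≫ p) v ∈ U
    rw [← h, hpt v]; exact hy
  letI := SGA1Q.secAction ρ O hst
  haveI : IsDomain Γ(Spec (CommRingCat.of Ω), ⊤) :=
    (Scheme.ΓSpecIso (CommRingCat.of Ω)).commRingCatIsoToRingEquiv.toMulEquiv.isDomain _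
  obtain ⟨g, hg⟩ := exists_conj (G := G) (x₁.appLE O ⊤ h₁).hom (x₂.appLE O ⊤ h₂).hom fun s hs => by
    obtain ⟨t, rfl⟩ : s ∈ Set.range (p.app U).hom := (hp.range_iff U s).2 fun g => by
      have h' : ((ρ g⁻¹⁻¹).hom.appLE O O (hst _)).hom s = s := hs g⁻¹
      simp only [inv_inv] at h'
      exact h'
    have e : p.app U ≫ x₁.appLE O ⊤ h₁ = p.app U ≫ x₂.appLE O ⊤ h₂ := by
      rw [Scheme.Hom.app_eq_appLE, Scheme.Hom.appLE_comp_appLE, Scheme.Hom.appLE_comp_appLE]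
      exact SGA1Q.appLE_congr_hom h _ _
    exact congr(($e).hom t)
  have h₃ : (⊤ : (Spec (CommRingCat.of Ω)).Opens) ≤ (x₁ ≫ (ρ g⁻¹).hom) ⁻¹ᵁ O :=
    h₁.trans (x₁.preimage_mono (hst g⁻¹))
  refine ⟨g⁻¹, eq_of_appLE_eq _ _ hO h₃ h₂ ?_⟩
  rw [← Scheme.Hom.appLE_comp_appLE x₁ (ρ g⁻¹).hom O O ⊤ (hst _) h₁]
  ext s
  exact hg s

/-- Lifting two field-valued points along a surjection, after a field extension. -/
theorem exists_lift_two {T Y' : Scheme.{u}} (r : T ⟶ Y') [Surjective r] (K : Type u) [Field K]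
    (y₁ y₂ : Spec (CommRingCat.of K) ⟶ Y') :
    ∃ (Ω : Type u) (_ : Field Ω) (e : Spec (CommRingCat.of Ω) ⟶ Spec (CommRingCat.of K))
      (x₁ x₂ : Spec (CommRingCat.of Ω) ⟶ T), Epi e ∧ x₁ ≫ r = e ≫ y₁ ∧ x₂ ≫ r = e ≫ y₂ := by
  haveI h1 : Surjective (pullback.snd r y₁) := MorphismProperty.pullback_snd _ _ inferInstance
  haveI h2 : Surjective (pullback.snd r y₂) := MorphismProperty.pullback_snd _ _ inferInstance
  let W := pullback (pullback.snd r y₁) (pullback.snd r y₂)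
  let q : W ⟶ Spec (CommRingCat.of K) := pullback.fst _ _ ≫ pullback.snd r y₁
  haveI : Surjective (pullback.fst (pullback.snd r y₁) (pullback.snd r y₂)) :=
    MorphismProperty.pullback_fst _ _ h2
  obtain ⟨w, -⟩ := q.surjective (IsLocalRing.closedPoint K)
  let e := W.fromSpecResidueField w ≫ q
  refine ⟨W.residueField w, inferInstance, e,
    W.fromSpecResidueField w ≫ pullback.fst _ _ ≫ pullback.fst r y₁,
    W.fromSpecResidueField w ≫ pullback.snd _ _ ≫ pullback.fst r y₂, ?_, ?_, ?_⟩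
  · haveI : Surjective e := ⟨fun v => ⟨IsLocalRing.closedPoint _, Subsingleton.elim _ _⟩⟩
    haveI : Flat e := by
      obtain ⟨φ, hφ⟩ := Spec.map_surjective e
      rw [← hφ, Flat.SpecMap_iff]
      letI := φ.hom.toAlgebra
      exact (inferInstanceAs (Module.Flat K (W.residueField w)))
    exact Flat.epi_of_flat_of_surjective e
  · simp only [e, q, Category.assoc]
    rw [pullback.condition (f := r) (g := y₁)]
  · simp only [e, q, Category.assoc]
    rw [pullback.condition (f := r) (g := y₂),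
      ← pullback.condition_assoc (f := pullback.snd r y₁) (g := pullback.snd r y₂)]

theorem universallyInjective_of_conj {T Y' Z : Scheme.{u}} (r : T ⟶ Y') [Surjective r]
    (m : Y' ⟶ Z) (σ : G → (T ⟶ T)) (hσ : ∀ g, σ g ≫ r = r)
    (h : ∀ (Ω : Type u) [Field Ω] (x₁ x₂ : Spec (CommRingCat.of Ω) ⟶ T),
      x₁ ≫ r ≫ m = x₂ ≫ r ≫ m → ∃ g, x₁ ≫ σ g = x₂) :
    UniversallyInjective m := by
  refine ((tfae_universallyInjective m).out 0 1 rfl rfl).mpr fun K _ y₁ y₂ hy => ?_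
  obtain ⟨Ω, _, e, x₁, x₂, _, hx₁, hx₂⟩ := exists_lift_two r K y₁ y₂
  obtain ⟨g, hg⟩ := h Ω x₁ x₂ (by
    rw [reassoc_of% hx₁, reassoc_of% hx₂]; exact congrArg (e ≫ ·) hy)
  rw [← cancel_epi e, ← hx₁, ← hx₂, ← hg, Category.assoc, hσ]

theorem isUnivHomeo_baseChange_cmp {S S' Y' : Scheme.{u}} (ρ : G →* Aut X) (f : X ⟶ S)
    (q : X ⟶ Y) (h : Y ⟶ S) (hq : q ≫ h = f) (hquot : SGA1.IsQuot ρ q) (g : S' ⟶ S)
    (ρ' : G →* Aut (pullback f g))
    (hρ' : ∀ σ : G, (ρ' σ).hom ≫ pullback.fst f g = pullback.fst f g ≫ (ρ σ).hom ∧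
      (ρ' σ).hom ≫ pullback.snd f g = pullback.snd f g)
    (r : pullback f g ⟶ Y') (hr : SGA1.IsQuot ρ' r)
    (m : Y' ⟶ pullback h g)
    (hm : r ≫ m = pullback.map f g h g q (𝟙 S') (𝟙 S)
      ((Category.comp_id f).trans hq.symm) ((Category.comp_id g).trans (Category.id_comp g).symm)) :
    FlatMor.IsUnivHomeo m := by
  haveI : Surjective r := ⟨SGA1Q.surjective hr⟩
  haveI : Surjective q := ⟨SGA1Q.surjective hquot⟩
  haveI := SGA1Q.isIntegralHom hquot
  have hI : IsIntegralHom (r ≫ m) := by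
    rw [hm]
    exact MorphismProperty.pullbackMap (P := @IsIntegralHom) (h₁ := ‹_›) (h₂ := inferInstance) hq.symm (Category.id_comp g).symm
  have hS : Surjective (r ≫ m) := by
    rw [hm]
    exact MorphismProperty.pullbackMap (P := @Surjective) (h₁ := ‹_›) (h₂ := inferInstance) hq.symm (Category.id_comp g).symm
  refine (Groth.Agent.S0415.result m).2 ⟨?_, ?_, Surjective.of_comp r m⟩
  · rw [IsIntegralHom.iff_universallyClosed_and_isAffineHom]
    exact ⟨UniversallyClosed.of_comp_surjective r m,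
      (SGA1Q.isAffineHom_iff_of_isQuot hr rfl).1 inferInstance⟩
  · refine universallyInjective_of_conj r m (fun σ => (ρ' σ).hom) hr.inv fun Ω _ x₁ x₂ hx => ?_
    rw [hm] at hx
    have e₁ := congrArg (· ≫ pullback.fst h g) hx
    have e₂ := congrArg (· ≫ pullback.snd h g) hx
    simp only [Category.assoc, pullback.lift_fst, pullback.lift_snd, Category.comp_id] at e₁ e₂
    obtain ⟨σ, hσ⟩ := pts_conj hquot Ω (x₁ ≫ pullback.fst f g) (x₂ ≫ pullback.fst f g)
      (by simpa only [Category.assoc] using e₁)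
    refine ⟨σ, pullback.hom_ext ?_ ?_⟩
    · rw [Category.assoc, (hρ' σ).1, ← hσ, Category.assoc]
    · rw [Category.assoc, (hρ' σ).2, e₂]

theorem isUnivHomeo_closed_cmp {Z W : Scheme.{u}} (ρ : G →* Aut X) (q : X ⟶ Y)
    (hquot : SGA1.IsQuot ρ q) (i : Z ⟶ X) [IsClosedImmersion i] (ρZ : G →* Aut Z)
    (hρZ : ∀ σ : G, (ρZ σ).hom ≫ i = i ≫ (ρ σ).hom) (r : Z ⟶ W) (hr : SGA1.IsQuot ρZ r)
    (m : W ⟶ (i ≫ q).ker.subscheme) (hm : r ≫ m ≫ (i ≫ q).ker.subschemeι = i ≫ q) :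
    FlatMor.IsUnivHomeo m ∧ IsSchemeTheoreticallyDominant m := by
  haveI : Surjective r := ⟨SGA1Q.surjective hr⟩
  haveI := SGA1Q.isIntegralHom hquot
  haveI hI : IsIntegralHom (r ≫ m) := by
    haveI : IsIntegralHom ((r ≫ m) ≫ (i ≫ q).ker.subschemeι) := by
      rw [Category.assoc, hm]; infer_instance
    exact MorphismProperty.of_postcomp (W := @IsIntegralHom) (W' := @IsSeparated) (r ≫ m) (i ≫ q).ker.subschemeι
      inferInstance inferInstance
  have him : r ≫ m = (i ≫ q).toImage := by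
    rw [← cancel_mono (i ≫ q).ker.subschemeι, Category.assoc, hm]
    exact (Scheme.Hom.toImage_imageι (i ≫ q)).symm
  haveI hmI : IsIntegralHom m := by
    rw [IsIntegralHom.iff_universallyClosed_and_isAffineHom]
    exact ⟨UniversallyClosed.of_comp_surjective r m,
      (SGA1Q.isAffineHom_iff_of_isQuot hr rfl).1 inferInstance⟩
  refine ⟨(Groth.Agent.S0415.result m).2 ⟨hmI, ?_, ?_⟩, ⟨?_⟩⟩
  · refine universallyInjective_of_conj r m (fun σ => (ρZ σ).hom) hr.inv fun Ω _ x₁ x₂ hx => ?_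
    have e₁ := congrArg (· ≫ (i ≫ q).ker.subschemeι) hx
    simp only [Category.assoc, hm] at e₁
    obtain ⟨σ, hσ⟩ := pts_conj hquot Ω (x₁ ≫ i) (x₂ ≫ i) (by simpa only [Category.assoc] using e₁)
    refine ⟨σ, ?_⟩
    rw [← cancel_mono i, Category.assoc, hρZ, ← hσ, Category.assoc]
  · refine ⟨fun v => ?_⟩
    have hv : (i ≫ q).ker.subschemeι v ∈ Set.range (i ≫ q) := by
      have h1 : (i ≫ q).ker.subschemeι v ∈ ((i ≫ q).ker.support : Set Y) := by
        rw [← Scheme.IdealSheafData.range_subschemeι]; exact ⟨v, rfl⟩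
      rw [Scheme.Hom.support_ker] at h1
      rwa [(i ≫ q).isClosedMap.isClosed_range.closure_eq] at h1
    obtain ⟨z, hz⟩ := hv
    refine ⟨r z, (i ≫ q).ker.subschemeι.isEmbedding.injective ?_⟩
    rw [← hz]
    exact congr(($hm) z)
  · refine Scheme.IdealSheafData.ext_of_iSup_eq_top
      (fun U : Y.affineOpens => ⟨(i ≫ q).ker.subschemeι ⁻¹ᵁ U.1, U.2.preimage _⟩)
      ?_ fun U => ?_
    · show (⨆ U : Y.affineOpens, (i ≫ q).ker.subschemeι ⁻¹ᵁ U.1) = ⊤
      rw [← Scheme.Hom.preimage_iSup, iSup_affineOpens_eq_top, Scheme.Hom.preimage_top]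
    rw [Scheme.Hom.ker_apply, Scheme.IdealSheafData.ideal_bot, Pi.bot_apply,
      RingHom.ker_eq_bot_iff_eq_zero]
    intro s hs
    refine (Scheme.Hom.toImage_app_injective (i ≫ q) (U := U)) ?_
    rw [map_zero, ← him, Scheme.Hom.comp_app]
    exact (congrArg (r.app _).hom hs).trans (map_zero (r.app _).hom)

end Groth.Agent.ZBQuotCmp
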