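import Mathlib.RingTheory.MvPolynomial.Basic
import Mathlib.RingTheory.Invariant.Basic
import Mathlib.Algebra.Polynomial.Eval.Defs

/-!
# Two maps to a domain which agree on invariants are conjugate
-/

universe u

namespace Groth.Agent.ZBQuotCmp

theorem exists_conj {A R : Type*} [CommRing A] [CommRing R] [IsDomain R] {G : Type*} [Group G]
    [Finite G] [MulSemiringAction G A] (f₁ f₂ : A →+* R)
    (h : ∀ a : A, (∀ g : G, g • a = a) → f₁ a = f₂ a) :
    ∃ g : G, ∀ a : A, f₁ (g • a) = f₂ a := by
  classical
  cases nonempty_fintype G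
  by_contra! hcon
  choose w hw using hcon
  let T : G → MvPolynomial G A →+* MvPolynomial G A :=
    fun τ => MvPolynomial.map (MulSemiringAction.toRingHom G A τ)
  have hT : ∀ τ ρ x, T τ (T ρ x) = T (τ * ρ) x := fun τ ρ x => by
    simp only [T, MvPolynomial.map_map]
    congr 2
    ext b
    exact (mul_smul τ ρ b).symm
  let a : MvPolynomial G A := ∑ g, MvPolynomial.C (w g) * MvPolynomial.X g
  let P : Polynomial (MvPolynomial G A) := ∏ τ : G, (Polynomial.X - Polynomial.C (T τ a))
  have hfix : ∀ ρ, P.map (T ρ) = P := fun ρ => by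
    simp only [P, Polynomial.map_prod, Polynomial.map_sub, Polynomial.map_X, Polynomial.map_C, hT]
    exact Fintype.prod_equiv (Equiv.mulLeft ρ) _ _ fun τ => rfl
  have heq : P.map (MvPolynomial.map f₁) = P.map (MvPolynomial.map f₂) := by
    refine Polynomial.ext fun n => MvPolynomial.ext _ _ fun e => ?_
    rw [Polynomial.coeff_map, Polynomial.coeff_map, MvPolynomial.coeff_map, MvPolynomial.coeff_map]
    refine h _ fun g => ?_
    have := congrArg (fun Q : Polynomial (MvPolynomial G A) => (Q.coeff n).coeff e) (hfix g)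
    simpa [T, Polynomial.coeff_map, MvPolynomial.coeff_map] using this
  have h0 : ∏ τ : G, (MvPolynomial.map f₂ a - MvPolynomial.map f₁ (T τ a)) = 0 := by
    have h2 : (P.map (MvPolynomial.map f₂)).eval (MvPolynomial.map f₂ a) = 0 := by
      simp only [P, Polynomial.map_prod, Polynomial.eval_prod, Polynomial.map_sub, Polynomial.map_X,
        Polynomial.map_C, Polynomial.eval_sub, Polynomial.eval_X, Polynomial.eval_C]
      refine Finset.prod_eq_zero (Finset.mem_univ (1 : G)) ?_
      rw [sub_eq_zero]
      congr 1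
      have hid : MulSemiringAction.toRingHom G A 1 = RingHom.id A :=
        RingHom.ext fun b => one_smul G b
      simp only [T, hid, MvPolynomial.map_id]
    rw [← heq] at h2
    simpa only [P, Polynomial.map_prod, Polynomial.eval_prod, Polynomial.map_sub, Polynomial.map_X,
      Polynomial.map_C, Polynomial.eval_sub, Polynomial.eval_X, Polynomial.eval_C] using h2
  obtain ⟨τ, -, hτ⟩ := Finset.prod_eq_zero_iff.1 h0
  refine hw τ ?_
  have hc := congrArg (MvPolynomial.coeff (Finsupp.single τ 1)) (sub_eq_zero.1 hτ)
  simp only [T, a, MvPolynomial.coeff_map, MvPolynomial.coeff_sum, MvPolynomial.coeff_C_mul,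
    MvPolynomial.coeff_X] at hc
  simp [Finsupp.single_left_inj, Finset.sum_ite_eq'] at hc
  exact hc.symm

end Groth.Agent.ZBQuotCmp
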